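import Groth.Agent.ConormalLib.Split
import Groth.Agent.OmegaUnivLib.Univ
import Groth.Agent.S9386
import Groth.Agent.S9370
import Groth.Agent.S9384
import Mathlib

/-!
Differentials of a section and translation invariance of differentials.
-/

set_option autoImplicit false
set_option backward.isDefEq.respectTransparency false
set_option backward.defeqAttrib.useBackward true
set_option linter.style.haveILetI false

universe u

open CategoryTheory CategoryTheory.Limits AlgebraicGeometry TopologicalSpace Opposite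

noncomputable section

namespace Groth.Agent.GrpOmega

open Groth.Agent

variable {X Z S : Scheme.{u}}

/-- The map `C_{Z/X} → i^*Ω` induced by a derivation exists. -/
theorem exists_conormalDiff (i : Z ⟶ X) {f : X ⟶ S} {Ω : X.Modules} (d : OmegaSh.Der f Ω) :
    ∃ φ : Omega.conormal i ⟶ (Scheme.Modules.pullback i).obj Ω, OmegaSh.IsConormalDiff i d φ := by
  let P := (Scheme.Modules.pushforward i).obj ((Scheme.Modules.pullback i).obj Ω)
  let δ : ∀ U : X.Opens, Γ(ClSub.idealMod i.ker, U) →+ Γ(P, U) := fun U =>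
    (OmegaSh.pullSect i Ω U).hom.comp ((d.app U).comp (OmegaSh.idealSect i.ker U))
  let α : (ClSub.idealMod i.ker).presheaf ⟶ P.presheaf :=
    { app := fun U => AddCommGrpCat.ofHom (δ U.unop)
      naturality := fun U V h => by
        refine AddCommGrpCat.hom_ext (AddMonoidHom.ext fun m => ?_)
        show δ V.unop ((ClSub.idealMod i.ker).presheaf.map (homOfLE h.unop.le).op m) =
          P.presheaf.map (homOfLE h.unop.le).op (δ U.unop m)
        show OmegaSh.pullSect i Ω V.unop (d.app V.unop (OmegaSh.idealSect i.ker V.unop _)) = _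
        rw [ConormalLib.idealSect_res, OmegaUnivLib.app_res]
        exact (OmegaUnivLib.hom_natural ((Scheme.Modules.pullbackPushforwardAdjunction i).unit.app Ω)
          (homOfLE h.unop.le) _) }
  have hlin : ∀ (U : X.Opens) (r : Γ(X, U)) (m : Γ(ClSub.idealMod i.ker, U)),
      δ U (r • m) = r • (show Γ(P, U) from δ U m) := by
    intro U r m
    let η := ((Scheme.Modules.pullbackPushforwardAdjunction i).unit.app Ω)
    show η.app U (d.app U (OmegaSh.idealSect i.ker U (r • m))) = r • η.app U (d.app U (OmegaSh.idealSect i.ker U m))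
    rw [OmegaAffLib.idealSect_smul, OmegaUnivLib.app_mul, map_add, Scheme.Modules.Hom.app_smul,
      Scheme.Modules.Hom.app_smul]
    refine add_eq_left.mpr ?_
    show (i.app U (OmegaSh.idealSect i.ker U m)) • (show Γ((Scheme.Modules.pullback i).obj Ω, i ⁻¹ᵁ U) from η.app U (d.app U r)) = 0
    rw [ConormalLib.app_idealSect, zero_smul]
  let ψ : ClSub.idealMod i.ker ⟶ P :=
    ⟨PresheafOfModules.homMk (M₁ := (ClSub.idealMod i.ker).val) (M₂ := P.val) α fun U r m => hlin U.unop r m⟩
  let e := (Scheme.Modules.pullbackPushforwardAdjunction i).homEquiv (ClSub.idealMod i.ker)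
    ((Scheme.Modules.pullback i).obj Ω)
  refine ⟨e.symm ψ, fun U m => ?_⟩
  have h : (e (e.symm ψ)).app U m = ψ.app U m := by rw [e.apply_symm_apply]
  refine Eq.trans ?_ h
  rw [Adjunction.homEquiv_unit]
  rfl

/-- The only derivation of the identity is zero. -/
theorem der_id_eq_zero {F : Z.Modules} (D : OmegaSh.Der (𝟙 Z) F) (U : Z.Opens) (s : Γ(Z, U)) : D.app U s = 0 := by
  have h := OmegaUnivLib.app_appLE D U U le_rfl s
  rw [show (𝟙 Z : Z ⟶ Z).appLE U U le_rfl s = s from by
    simp only [Scheme.Hom.appLE, Scheme.Hom.id_app, Category.id_comp]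
    exact congr($(Z.presheaf.map_id _) s)] at h
  exact h

/-- The conormal sheaf of a section is the restriction of the differentials. -/
theorem conormal_section_iso {f : X ⟶ S} [QuasiSeparated f] (e : S ⟶ X) (he : e ≫ f = 𝟙 S)
    [IsImmersion e] [QuasiCompact e] :
    Nonempty (Omega.conormal e ≅ (Scheme.Modules.pullback e).obj (Omega.sheaf f)) := by
  obtain ⟨φ, hφ⟩ := exists_conormalDiff e (OmegaSh.dOmega f)
  have hd := OmegaUnivLib.isUniversal_dOmega f
  haveI : QuasiSeparated (e ≫ f) := by rw [he]; infer_instance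
  have hdZ := OmegaUnivLib.isUniversal_dOmega (e ≫ f)
  obtain ⟨c, hc, -⟩ := Groth.Agent.S9370.result f (e ≫ f) e (𝟙 S) (Category.comp_id _) _ _ hd _ _ hdZ
  obtain ⟨w, hex, ⟨r, hr⟩, -⟩ := Groth.Agent.S9384.result f e f he
    (by rw [he, Category.comp_id]) _ _ hd _ _ hdZ φ hφ c hc
  have hzero : ∀ (U : S.Opens) (s : Γ(S, U)), (OmegaSh.dOmega (e ≫ f)).app U s = 0 := by
    intro U s
    have : ∀ (g : S ⟶ S) (hg : g = 𝟙 S) (F : S.Modules) (D : OmegaSh.Der g F), D.app U s = 0 := by
      rintro g rfl F D; exact der_id_eq_zero D U s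
    exact this _ he _ _
  have hc0 : c = 0 := ConormalLib.hom_ext_pullback_omega e hd fun U s => by
    refine (hc U s).trans ((hzero _ _).trans ?_)
    rfl
  haveI : Mono φ := mono_of_mono_fac hr
  haveI : Epi φ := hex.epi_f hc0
  haveI : IsIso φ := isIso_of_mono_of_epi φ
  exact ⟨asIso φ⟩

/-- Differentials commute with base change. -/
theorem omega_baseChange {X' S' : Scheme.{u}} {f : X ⟶ S} {g : S' ⟶ S} {g' : X' ⟶ X} {f' : X' ⟶ S'}
    [QuasiSeparated f] [QuasiSeparated f'] (h : IsPullback g' f' f g) :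
    Nonempty ((Scheme.Modules.pullback g').obj (Omega.sheaf f) ≅ Omega.sheaf f') := by
  have hd := OmegaUnivLib.isUniversal_dOmega f
  have hd' := OmegaUnivLib.isUniversal_dOmega f'
  obtain ⟨c, hc, -⟩ := Groth.Agent.S9370.result f f' g' g h.w.symm _ _ hd _ _ hd'
  haveI := Groth.Agent.S9386.result f g g' f' h _ _ hd _ _ hd' c hc
  exact ⟨asIso c⟩

/-- Two ways to be a base change: the translation argument. -/
theorem omega_transl {X S : Scheme.{u}} {f : X ⟶ S} [QuasiSeparated f] {P : Scheme.{u}} {p q μ : P ⟶ X}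
    (hq : IsPullback q p f f) (hμ : IsPullback μ p f f) (j : X ⟶ P) {e : S ⟶ X} (hjμ : j ≫ μ = 𝟙 X)
    (hjq : j ≫ q = f ≫ e) :
    Nonempty (Omega.sheaf f ≅ (Scheme.Modules.pullback f).obj ((Scheme.Modules.pullback e).obj (Omega.sheaf f))) := by
  haveI : QuasiSeparated p := MorphismProperty.of_isPullback hq ‹QuasiSeparated f›
  obtain ⟨a⟩ := omega_baseChange hq
  obtain ⟨b⟩ := omega_baseChange hμ
  let Ω := Omega.sheaf f
  exact ⟨((Scheme.Modules.pullbackId X).app Ω).symm ≪≫ ((Scheme.Modules.pullbackCongr hjμ).app Ω).symm ≪≫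
    ((Scheme.Modules.pullbackComp j μ).app Ω).symm ≪≫ (Scheme.Modules.pullback j).mapIso (b ≪≫ a.symm) ≪≫
    (Scheme.Modules.pullbackComp j q).app Ω ≪≫ (Scheme.Modules.pullbackCongr hjq).app Ω ≪≫
    ((Scheme.Modules.pullbackComp f e).app Ω).symm⟩

end Groth.Agent.GrpOmega
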