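import Groth.Agent.GrpOmega.Group
import Groth.Agent.S7676
import Groth.Agent.S1486
import Groth.Agent.S7795
import Groth.Agent.VecFrameLib.Basic
import Groth.Agent.RigidLib.Group
import Groth.Agent.EtAlgEasy.OmegaSmooth2
import Mathlib

/-!
Invariant differentials of abelian schemes.
-/

set_option autoImplicit false
set_option backward.isDefEq.respectTransparency false
set_option linter.style.haveILetI false

universe u

open CategoryTheory CategoryTheory.Limits AlgebraicGeometry TopologicalSpace Opposite
open scoped MonObj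

noncomputable section

namespace Groth.Agent.GrpOmega

open Groth.Agent

variable {X S : Scheme.{u}}

/-- Sections of a module pulled back from the base are sections of its restriction along a section. -/
theorem bijective_pullSec_section (f : X ⟶ S) (e : S ⟶ X) (he : e ≫ f = 𝟙 S)
    (hf : ∀ U : S.Opens, Function.Bijective (f.app U)) {E : S.Modules} (hE : FlatMod.IsFinLocFree E)
    {M : X.Modules} (t : (Scheme.Modules.pullback f).obj E ≅ M) :
    Function.Bijective (ProjUP.pullSec e M) := by
  have hbij : ∀ U : S.Opens, Function.Bijective ((e ≫ f).app U) := fun U => by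
    haveI : IsIso (e ≫ f) := by rw [he]; infer_instance
    exact ConcreteCategory.bijective_of_isIso ((e ≫ f).app U)
  haveI := VecFrameLib.isIso_unit f hf hE
  haveI := VecFrameLib.isIso_unit (e ≫ f) hbij hE
  have h1 : Function.Bijective (ProjUP.pullSec f E) :=
    ConcreteCategory.bijective_of_isIso (((Scheme.Modules.pullbackPushforwardAdjunction f).unit.app E).app ⊤)
  have h2 : Function.Bijective (ProjUP.pullSec (e ≫ f) E) :=
    ConcreteCategory.bijective_of_isIso (((Scheme.Modules.pullbackPushforwardAdjunction (e ≫ f)).unit.app E).app ⊤)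
  let c := ((Scheme.Modules.pullbackComp e f).app E)
  have h3 : ProjUP.pullSec (e ≫ f) E = c.hom.app ⊤ ∘ ProjUP.pullSec e _ ∘ ProjUP.pullSec f E :=
    funext fun s => (Groth.Agent.S7676.pullSec_comp e f E s).symm
  rw [h3] at h2
  have hc : Function.Bijective (c.hom.app ⊤) := ConcreteCategory.bijective_of_isIso (c.hom.app ⊤)
  have h4 : Function.Bijective (ProjUP.pullSec e ((Scheme.Modules.pullback f).obj E)) :=
    (Function.Bijective.of_comp_iff _ h1).1 ((Function.Bijective.of_comp_iff' hc _).1 h2)
  let te := (Scheme.Modules.pullback e).mapIso t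
  have h5 : te.hom.app ⊤ ∘ ProjUP.pullSec e ((Scheme.Modules.pullback f).obj E) =
      ProjUP.pullSec e M ∘ t.hom.app ⊤ := funext fun s => Groth.Agent.S7676.pullSec_nat e t.hom s
  have h6 : Function.Bijective (te.hom.app ⊤ ∘ ProjUP.pullSec e ((Scheme.Modules.pullback f).obj E)) :=
    (ConcreteCategory.bijective_of_isIso (te.hom.app ⊤)).comp h4
  rw [h5] at h6
  exact (Function.Bijective.of_comp_iff _ (ConcreteCategory.bijective_of_isIso (t.hom.app ⊤))).1 h6

/-- Facts about the invariant differentials of an abelian scheme. -/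
theorem abScheme (A : Over S) [GrpObj A] [IsProper A.hom] [Flat A.hom] [LocallyOfFinitePresentation A.hom]
    [GeometricallyReduced A.hom] [GeometricallyConnected A.hom] :
    η[A].left ≫ A.hom = 𝟙 S ∧ (∀ U : S.Opens, Function.Bijective (A.hom.app U)) ∧
      FlatMod.IsFinLocFree ((Scheme.Modules.pullback η[A].left).obj (Omega.sheaf A.hom)) ∧
      Nonempty ((Scheme.Modules.pullback A.hom).obj
        ((Scheme.Modules.pullback η[A].left).obj (Omega.sheaf A.hom)) ≅ Omega.sheaf A.hom) := by
  have he : η[A].left ≫ A.hom = 𝟙 S := Over.w η[A]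
  haveI : QuasiSeparated A.hom := inferInstance
  haveI : Smooth A.hom := Groth.Agent.S7795.result A
  have hfs : MoreMor.IsFormallySmoothHom A.hom := (Groth.Agent.S1486.result A.hom).2 fun U V hU hV hUV => by
    letI := (A.hom.appLE V U hUV).hom.toAlgebra
    haveI : Algebra.Smooth Γ(S, V) Γ(A.left, U) := RingHom.smooth_algebraMap.1 (A.hom.smooth_appLE hV hU hUV)
    infer_instance
  have hlf : FlatMod.IsFinLocFree (Omega.sheaf A.hom) :=
    EtAlgEasy.OmegaSmooth.isFinLocFree_omega A.hom hfs (OmegaUnivLib.isUniversal_dOmega A.hom)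
  refine ⟨he, RigidLib.bijApp_of_geom A.hom, PullbackMod.isFinLocFree_pullback _ _ hlf, ?_⟩
  obtain ⟨t⟩ := omega_group S A
  let e : S ⟶ A.left := η[A].left
  have he' : e ≫ A.hom = 𝟙 S := he
  haveI : IsImmersion e := by
    haveI : IsImmersion (e ≫ A.hom) := by rw [he']; infer_instance
    exact IsImmersion.of_comp _ A.hom
  haveI : QuasiCompact e := by
    haveI : QuasiCompact (e ≫ A.hom) := by rw [he']; infer_instance
    exact QuasiCompact.of_comp _ A.hom
  obtain ⟨ce⟩ := conormal_section_iso (f := A.hom) e he'
  exact ⟨((Scheme.Modules.pullback A.hom).mapIso ce).symm ≪≫ t.symm⟩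

end Groth.Agent.GrpOmega
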