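import Groth.Agent.GrpOmega.Basic
import Groth.Agent.ProjCoh.PSData
import Groth.Agent.PullbackMod.Basic
import Mathlib

/-!
Differentials of a group scheme are translation invariant.
-/

set_option autoImplicit false
set_option backward.isDefEq.respectTransparency false
set_option linter.style.haveILetI false

universe u

open CategoryTheory CategoryTheory.Limits AlgebraicGeometry TopologicalSpace Opposite
open scoped MonObj

noncomputable section

namespace Groth.Agent.GrpOmega

open Groth.Agent

open MonoidalCategory CartesianMonoidalCategory in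
/-- `Ω_{G/S} = f^* C_{S/G}`. -/
theorem omega_group (S : Scheme.{u}) (G : Over S) [GrpObj G] [QuasiSeparated G.hom] :
    Nonempty (Omega.sheaf G.hom ≅ (Scheme.Modules.pullback G.hom).obj (Omega.conormal η[G].left)) := by
  let e : S ⟶ G.left := η[G].left
  have he : e ≫ G.hom = 𝟙 S := Over.w η[G]
  haveI : IsImmersion e := by
    haveI : IsImmersion (e ≫ G.hom) := by rw [he]; infer_instance
    exact IsImmersion.of_comp e G.hom
  haveI : QuasiCompact e := by
    haveI : QuasiCompact (e ≫ G.hom) := by rw [he]; infer_instance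
    exact QuasiCompact.of_comp e G.hom
  obtain ⟨ce⟩ := conormal_section_iso (f := G.hom) e he
  let p : (G ⊗ G).left ⟶ G.left := (fst G G).left
  let q : (G ⊗ G).left ⟶ G.left := (snd G G).left
  have hp : IsPullback q p G.hom G.hom := (IsPullback.of_hasPullback G.hom G.hom).flip
  let a : G ⊗ G ≅ G ⊗ G :=
    { hom := lift (fst G G) (fst G G * snd G G)
      inv := lift (fst G G) ((fst G G)⁻¹ * snd G G)
      hom_inv_id := by
        apply hom_ext
        · simp
        · simp [MonObj.comp_mul, GrpObj.comp_inv]
      inv_hom_id := by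
        apply hom_ext
        · simp
        · simp [MonObj.comp_mul, GrpObj.comp_inv] }
  let μ' : (G ⊗ G).left ⟶ G.left := (fst G G * snd G G).left
  have h1 : a.hom.left ≫ q = μ' := by
    show (a.hom ≫ snd G G).left = μ'
    simp [a, μ']
  have h2 : a.hom.left ≫ p = p := by
    show (a.hom ≫ fst G G).left = (fst G G).left
    simp [a]
  have hμ : IsPullback μ' p G.hom G.hom := by
    refine hp.of_iso ((Over.forget S).mapIso a).symm (Iso.refl _) (Iso.refl _) (Iso.refl _) ?_ ?_ (by simp) (by simp)
    · simp only [Iso.refl_hom, Category.comp_id]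
      show q = a.inv.left ≫ μ'
      rw [← h1, ← Category.assoc, ← Over.comp_left, a.inv_hom_id, Over.id_left, Category.id_comp]
    · simp only [Iso.refl_hom, Category.comp_id]
      show p = a.inv.left ≫ p
      nth_rewrite 2 [← h2]
      rw [← Category.assoc, ← Over.comp_left, a.inv_hom_id, Over.id_left, Category.id_comp]
  let j : G ⟶ G ⊗ G := lift (𝟙 G) (toUnit G ≫ η[G])
  have hjμ : j.left ≫ μ' = 𝟙 G.left := by
    show (j ≫ (fst G G * snd G G)).left = (𝟙 G : G ⟶ G).left
    congr 1
    rw [MonObj.comp_mul, lift_fst, lift_snd, show toUnit G ≫ η[G] = (1 : G ⟶ G) from rfl, mul_one]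
  have hjq : j.left ≫ q = G.hom ≫ e := by
    show (j ≫ snd G G).left = _
    rw [lift_snd]
    rfl
  obtain ⟨t⟩ := omega_transl hp hμ j.left hjμ hjq
  exact ⟨t ≪≫ ((Scheme.Modules.pullback G.hom).mapIso ce).symm⟩

/-- A pullback of a quasi-coherent module on the spectrum of a field is free. -/
theorem free_of_field {S X : Scheme.{u}} (K : Type u) [Field K] (a : S ≅ Spec (CommRingCat.of K)) (f : X ⟶ S)
    (N : S.Modules) [Coh.IsQCoh N] :
    ∃ I : Type u, Nonempty ((Scheme.Modules.pullback f).obj N ≅ ∐ fun _ : I => Coh.structureModule X) := by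
  let N' := (Scheme.Modules.pullback a.inv).obj N
  haveI : Coh.IsQCoh N' := PullbackMod.isQCoh_pullback a.inv N
  haveI : N'.IsQuasicoherent := ‹Coh.IsQCoh N'›
  haveI : IsIso (Scheme.Modules.fromTildeΓ (R := CommRingCat.of K) N') :=
    Scheme.Modules.isIso_fromTildeΓ_of_isQuasicoherent (R := CommRingCat.of K) N'
  let M := (moduleSpecΓFunctor (R := CommRingCat.of K)).obj N'
  let eN : tilde M ≅ N' := asIso (Scheme.Modules.fromTildeΓ (R := CommRingCat.of K) N')
  letI : Module K M := inferInstanceAs (Module (CommRingCat.of K : CommRingCat.{u}) M)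
  let J := Module.Free.ChooseBasisIndex K M
  let eM : M ≅ ModuleCat.of (CommRingCat.of K : CommRingCat.{u}) (J →₀ K) :=
    (Module.Free.chooseBasis K M).repr.toModuleIso
  let e1 : SheafOfModules.free J ≅ N' := (tildeFinsupp (R := CommRingCat.of K) J).symm ≪≫
    (tilde.functor (CommRingCat.of K)).mapIso eM.symm ≪≫ eN
  let r := f ≫ a.hom
  let e2 : (Scheme.Modules.pullback r).obj N' ≅ (Scheme.Modules.pullback f).obj N :=
    (Scheme.Modules.pullbackComp r a.inv).app N ≪≫
      (Scheme.Modules.pullbackCongr (show r ≫ a.inv = f by simp [r])).app N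
  haveI : PreservesColimitsOfSize.{u, u} (Scheme.Modules.pullback r) :=
    (Scheme.Modules.pullbackPushforwardAdjunction r).leftAdjoint_preservesColimits
  refine ⟨J, ⟨e2.symm ≪≫ (Scheme.Modules.pullback r).mapIso e1.symm ≪≫ ?_⟩⟩
  exact (PreservesCoproduct.iso (Scheme.Modules.pullback r) fun _ : J => Coh.structureModule (Spec (CommRingCat.of K))) ≪≫
    Sigma.mapIso fun _ => Agent.ProjCoh.pullUnit r

end Groth.Agent.GrpOmega
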